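import Cfsg.Agent.Lib.Recog.SporBound.Sound
import Cfsg.Agent.Lib.Recog.SporBound.UsixCent.Tree0
import Cfsg.Agent.Lib.Recog.SporBound.UsixCent.Tree1

set_option autoImplicit false
set_option maxRecDepth 20000

/-! Generated closure certificate: generators and relators for the multiplier of PSU(6,2) (owner: lead). -/

namespace CfsgLib.Recog.SporBound.UsixCent
open CfsgLib.Recog.SporBound

noncomputable def factTree : Q (ℕ) := (.node ft15 ft31 ft47 ft63)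
noncomputable def nodeTree : Q (ℕ) := ct6
noncomputable def stepTree : Q (List ℕ) := (.node (.node st6 st12 st18 st24) (.node st31 st37 st43 st49) (.node st56 st62 st68 st74) (.node st80 st86 st92 st98))
noncomputable def finalTree : Q (List ℕ) := (.node (.node et6 et13 et19 et25) (.node et32 et39 et45 et51) (.node et58 et65 et71 et77) (.node et84 et90 et96 et102))

/-- The certificate. -/
noncomputable def cert : Cert where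
  n := 693
  nd := 2370
  nf := 7635
  kl := [0, 1, 2, 3, 4, 5, 6, 7]
  facts := factTree
  cn := nodeTree
  steps := stepTree
  finals := finalTree
  rels := [[0, 0], [1, 1], [2, 2], [3, 3], [4, 4], [5, 5], [6, 6], [7, 7], [0, 1, 0, 1, 0, 1], [0, 2, 0, 2], [0, 3, 0, 3], [0, 4, 0, 4], [0, 5, 0, 5], [0, 6, 0, 6], [0, 7, 0, 7], [1, 2, 1, 2, 1, 2], [1, 3, 1, 3], [1, 4, 1, 4], [1, 5, 1, 5, 1, 5], [1, 6, 1, 6], [1, 7, 1, 7, 1, 7], [2, 3, 2, 3, 2, 3], [2, 4, 2, 4], [2, 5, 2, 5], [2, 6, 2, 6], [2, 7, 2, 7], [3, 4, 3, 4, 3, 4], [3, 5, 3, 5], [3, 6, 3, 6], [3, 7, 3, 7], [4, 5, 4, 5], [4, 6, 4, 6], [4, 7, 4, 7], [5, 6, 5, 6, 5, 6], [5, 7, 5, 7, 5, 7], [6, 7, 6, 7], [7, 5, 1, 5, 7, 5, 1, 5, 7, 5, 1, 5], [2, 5, 7, 3, 1, 6, 2, 5, 7, 3, 1, 6, 2, 5, 7, 3, 1, 6, 2, 5, 7, 3, 1, 6, 2, 5, 7, 3, 1, 6, 2, 5, 7, 3, 1, 6, 2, 5, 7, 3, 1, 6], [7, 0, 6,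 3, 1, 5, 2, 7, 0, 6, 3, 1, 5, 2, 7, 0, 6, 3, 1, 5, 2, 7, 0, 6, 3, 1, 5, 2, 7, 0, 6, 3, 1, 5, 2, 7, 0, 6, 3, 1, 5, 2, 7, 0, 6, 3, 1, 5, 2], [4, 3, 2, 1, 5, 6, 0, 4, 3, 2, 1, 5, 6, 0, 4, 3, 2, 1, 5, 6, 0, 4, 3, 2, 1, 5, 6, 0, 4, 3, 2, 1, 5, 6, 0, 4, 3, 2, 1, 5, 6, 0, 4, 3, 2, 1, 5, 6, 0, 4, 3, 2, 1, 5, 6, 0, 4, 3, 2, 1, 5, 6, 0]]
  subs := [[0], [2], [3], [4], [5], [6], [7], [6, 1, 5, 2, 1, 0, 1, 2, 5, 1, 6], [1, 2, 0, 1, 7, 5, 7, 1, 0, 2, 1]]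

/-- Chains of the traced words. -/
noncomputable def closers : List ℕ := []

end CfsgLib.Recog.SporBound.UsixCent
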